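import Mathlib
import Cfsg.Prelude.Def_Transfer
import Cfsg.Agent.PGroup.Basic
import Cfsg.Agent.PGroup.Critical
import Cfsg.Agent.RankOneP.Basic

set_option autoImplicit false

/-!
Groups of order `p³`: three exceptional shapes, otherwise a characteristic chain with cyclic factors.
-/

namespace CfsgLib.H29.CubeEssential

open scoped commutatorElement

variable {H : Type*} [Group H] [Finite H] {p : ℕ} [hp : Fact p.Prime]

/-- A chain `1 < K < L < H` of subgroups invariant under all automorphisms, with factors of order `p`. -/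
def HasChain (p : ℕ) (H : Type*) [Group H] : Prop :=
  ∃ K L : Subgroup H, K ≤ L ∧ Nat.card K = p ∧ Nat.card L = p ^ 2 ∧
    (∀ α : MulAut H, ∀ x ∈ K, α x ∈ K) ∧ ∀ α : MulAut H, ∀ x ∈ L, α x ∈ L

theorem chain_of_powHom (hcard : Nat.card H = p ^ 3) (f : H →* H) (hf : ∀ x, f x = x ^ p)
    (hne : ∃ x : H, x ^ p ≠ 1) : HasChain p H := by
  have hH : IsPGroup p H := IsPGroup.of_card hcard
  have hK : ∀ α : MulAut H, ∀ x ∈ f.ker, α x ∈ f.ker := fun α x hx => by
    rw [MonoidHom.mem_ker, hf] at hx ⊢
    rw [← map_pow, hx, map_one]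
  have hI : ∀ α : MulAut H, ∀ x ∈ f.range, α x ∈ f.range := by
    rintro α _ ⟨z, rfl⟩
    exact ⟨α z, by rw [hf, hf, map_pow]⟩
  have hmul : Nat.card f.ker * Nat.card f.range = p ^ 3 := by
    rw [← hcard, ← Subgroup.index_ker, Subgroup.card_mul_index]
  obtain ⟨a, ha, hKc⟩ := (Nat.dvd_prime_pow hp.out).mp (hcard ▸ Subgroup.card_subgroup_dvd_card f.ker)
  obtain ⟨b, hb, hIc⟩ := (Nat.dvd_prime_pow hp.out).mp (hcard ▸ Subgroup.card_subgroup_dvd_card f.range)
  rw [hKc, hIc, ← pow_add] at hmul
  have hab : a + b = 3 := Nat.pow_right_injective hp.out.two_le hmul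
  obtain ⟨x, hx⟩ := hne
  have hb0 : b ≠ 0 := fun h => hx (by
    rw [h, pow_zero, Subgroup.card_eq_one] at hIc
    rw [← hf, ← Subgroup.mem_bot, ← hIc]
    exact ⟨x, rfl⟩)
  obtain ⟨z, hz⟩ := exists_prime_orderOf_dvd_card' p (hcard ▸ dvd_pow_self p (by norm_num) : p ∣ Nat.card H)
  have hzK : z ∈ f.ker := by rw [MonoidHom.mem_ker, hf, ← hz, pow_orderOf_eq_one]
  have ha0 : a ≠ 0 := fun h => by
    rw [h, pow_zero, Subgroup.card_eq_one] at hKc
    rw [hKc, Subgroup.mem_bot] at hzK
    rw [hzK, orderOf_one] at hz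
    exact hp.out.one_lt.ne hz
  rcases (show (a = 1 ∧ b = 2) ∨ (a = 2 ∧ b = 1) by omega) with ⟨rfl, rfl⟩ | ⟨rfl, rfl⟩
  · refine ⟨f.ker, f.range, ?_, by rw [hKc, pow_one], hIc, hK, hI⟩
    obtain ⟨w, hw⟩ := exists_prime_orderOf_dvd_card' p (hIc ▸ dvd_pow_self p two_ne_zero : p ∣ Nat.card f.range)
    have hwo : orderOf (w : H) = p := by rw [Subgroup.orderOf_coe, hw]
    have e : Subgroup.zpowers (w : H) = f.ker := Subgroup.eq_of_le_of_card_ge
      (Subgroup.zpowers_le.mpr (by rw [MonoidHom.mem_ker, hf, ← hwo, pow_orderOf_eq_one]))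
      (by rw [Nat.card_zpowers, hwo, hKc, pow_one])
    exact e ▸ Subgroup.zpowers_le.mpr w.2
  · refine ⟨f.range, f.ker, ?_, by rw [hIc, pow_one], hKc, hI, hK⟩
    intro y hy
    rw [MonoidHom.mem_ker, hf]
    have h1 := pow_card_eq_one' (x := (⟨y, hy⟩ : f.range))
    rw [hIc, pow_one] at h1
    simpa using congrArg Subtype.val h1

theorem trichotomy (hcard : Nat.card H = p ^ 3) :
    ((∀ x : H, x ^ p = 1) ∧ ∀ a b : H, a * b = b * a) ∨
      (Odd p ∧ Cfsg.IsExtraspecial p H ∧ ∀ x : H, x ^ p = 1) ∨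
      (p = 2 ∧ Nonempty (H ≃* QuaternionGroup 2)) ∨ HasChain p H := by
  have hH : IsPGroup p H := IsPGroup.of_card hcard
  by_cases hab : ∀ a b : H, a * b = b * a
  · by_cases hexp : ∀ x : H, x ^ p = 1
    · exact Or.inl ⟨hexp, hab⟩
    push Not at hexp
    refine Or.inr (Or.inr (Or.inr (chain_of_powHom hcard
      { toFun := fun x => x ^ p, map_one' := one_pow p, map_mul' := fun x y => Commute.mul_pow (hab x y) p }
      (fun x => rfl) hexp)))
  -- the nonabelian case
  set Z := Subgroup.center H with hZ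
  haveI : Nontrivial H := Finite.one_lt_card_iff_nontrivial.mp (hcard ▸ one_lt_pow₀ hp.out.one_lt (by norm_num))
  haveI := hH.center_nontrivial
  have hnc : ¬ IsCyclic (H ⧸ Z) := fun h => by
    exact hab (fun a b => commutative_of_cyclic_center_quotient (QuotientGroup.mk' Z) (by simp [hZ]) a b)
  obtain ⟨k, hk, hZk⟩ := (Nat.dvd_prime_pow hp.out).mp (hcard ▸ Subgroup.card_subgroup_dvd_card Z)
  have hq : Nat.card (H ⧸ Z) * p ^ k = p ^ 3 := by
    rw [← hZk, ← Subgroup.card_eq_card_quotient_mul_card_subgroup, hcard]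
  have hk0 : k ≠ 0 := fun h => by
    rw [h, pow_zero] at hZk
    exact (Finite.one_lt_card_iff_nontrivial.mpr (inferInstance : Nontrivial Z)).ne' hZk
  have hk1 : k = 1 := by
    by_contra hk1
    apply hnc
    rcases (show k = 2 ∨ k = 3 by omega) with rfl | rfl
    · exact isCyclic_of_prime_card (p := p) (Nat.eq_of_mul_eq_mul_right (pow_pos hp.out.pos 2)
        (hq.trans (by ring)))
    · have h1 : Nat.card (H ⧸ Z) = 1 := Nat.eq_of_mul_eq_mul_right (pow_pos hp.out.pos 3)
        (hq.trans (one_mul _).symm)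
      haveI := (Nat.card_eq_one_iff_unique.mp h1).1
      infer_instance
  subst hk1
  rw [pow_one] at hZk
  have hq2 : Nat.card (H ⧸ Z) = p ^ 2 := Nat.eq_of_mul_eq_mul_right hp.out.pos
    ((by rwa [pow_one] at hq : Nat.card (H ⧸ Z) * p = p ^ 3).trans (by ring))
  have hcl : ∀ a b : H, ⁅a, b⁆ ∈ Z := fun a b => by
    rw [← QuotientGroup.eq_one_iff, ← QuotientGroup.mk'_apply, map_commutatorElement,
      commutatorElement_eq_one_iff_mul_comm]
    exact IsPGroup.commutative_of_card_eq_prime_sq hq2 _ _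
  have hpow : ∀ a : H, a ^ p ∈ Z := fun a => by
    rw [← QuotientGroup.eq_one_iff, QuotientGroup.mk_pow]
    by_contra hne
    apply hnc
    obtain ⟨j, hj, hjo⟩ := (Nat.dvd_prime_pow hp.out).mp (hq2 ▸ orderOf_dvd_natCard (QuotientGroup.mk a : H ⧸ Z))
    rcases Nat.lt_or_ge j 2 with h | h
    · exact absurd (orderOf_dvd_iff_pow_eq_one.mp (hjo ▸ (pow_dvd_pow p (Nat.lt_succ_iff.mp h)).trans
        (pow_one p).dvd)) hne
    · exact isCyclic_of_orderOf_eq_card _ (by rw [hjo, hq2, le_antisymm hj h])
  have hZp : ∀ z ∈ Z, z ^ p = 1 := fun z hz => by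
    have h1 := pow_card_eq_one' (x := (⟨z, hz⟩ : Z))
    rw [hZk] at h1
    simpa using congrArg Subtype.val h1
  by_cases hexp : ∀ x : H, x ^ p = 1
  · refine Or.inr (Or.inl ⟨?_, ⟨⟨hH, ?_, ?_⟩, hZk⟩, hexp⟩)
    · rcases hp.out.eq_two_or_odd' with rfl | h
      · refine absurd (fun a b => ?_) hab
        have inv_self : ∀ g : H, g⁻¹ = g := fun g => inv_eq_of_mul_eq_one_right (by rw [← pow_two]; exact hexp g)
        rw [← inv_self (a * b), mul_inv_rev, inv_self, inv_self]
      · exact h
    all_goals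
      have hcom : commutator H = Z := by
        have hle : commutator H ≤ Z := by
          rw [commutator_def]
          exact Subgroup.commutator_le.mpr fun a _ b _ => hcl a b
        refine Subgroup.eq_of_le_of_card_ge hle ?_
        rw [hZk]
        have h0 : 1 < Nat.card (commutator H) := by
          rw [Finite.one_lt_card_iff_nontrivial, Subgroup.nontrivial_iff_ne_bot]
          intro h
          refine hab fun a b => commutatorElement_eq_one_iff_mul_comm.mp ?_
          rw [← Subgroup.mem_bot, ← h, commutator_def]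
          exact Subgroup.commutator_mem_commutator (Subgroup.mem_top a) (Subgroup.mem_top b)
        have hd := Subgroup.card_dvd_of_le hle
        rw [hZk, Nat.dvd_prime hp.out] at hd
        rcases hd with h | h <;> omega
    · exact le_antisymm (CfsgLib.PGroup.frattini_le_of_elementary hcl hpow)
        (hcom.ge.trans (CfsgLib.PGroup.commutator_le_frattini hH))
    · exact hcom
  push Not at hexp
  rcases hp.out.eq_two_or_odd' with hp2 | hodd
  · subst hp2
    by_cases hinv : ∀ x : H, x ^ 2 = 1 → x ∈ Z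
    · refine Or.inr (Or.inr (Or.inl ⟨rfl, ?_⟩))
      have hu : CfsgLib.RankOneP.UniqueOrderP 2 H := fun x y hx hy hx1 => by
        have hle : Subgroup.zpowers x ≤ Z := Subgroup.zpowers_le.mpr (hinv x hx)
        rw [Subgroup.eq_of_le_of_card_ge hle (by rw [hZk, Nat.card_zpowers, orderOf_eq_prime hx hx1])]
        exact hinv y hy
      rcases CfsgLib.RankOneP.isCyclic_or_quaternion hH hu with hc | ⟨-, k, hk, ⟨e⟩⟩
      · haveI := hc; exact absurd (fun a b => (IsCyclic.isMulCommutative (α := H)).is_comm.comm a b) hab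
      · have hc := Nat.card_congr e.toEquiv
        rw [hcard, Nat.card_eq_fintype_card (α := QuaternionGroup (2 ^ k)), QuaternionGroup.card] at hc
        have : k = 1 := by
          have h2 : 2 ^ k = 2 ^ 1 := by norm_num at hc ⊢; omega
          exact Nat.pow_right_injective le_rfl h2
        subst this
        exact ⟨e⟩
    push Not at hinv
    obtain ⟨t, ht, htZ⟩ := hinv
    obtain ⟨s, hs⟩ := hexp
    refine Or.inr (Or.inr (Or.inr ?_))
    have hso : orderOf s = 2 ^ 2 := orderOf_eq_prime_pow (by simpa using hs)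
      (by rw [pow_two 2, pow_mul]; exact hZp _ (hpow s))
    set C := Subgroup.zpowers s with hC
    have hCc : Nat.card C = 4 := by rw [hC, Nat.card_zpowers, hso]; rfl
    have hCi : C.index = 2 := by
      have := Subgroup.card_mul_index C
      rw [hCc, hcard] at this
      omega
    haveI := Subgroup.normal_of_index_eq_two hCi
    have hs2 : Subgroup.zpowers (s ^ 2) = Z := Subgroup.eq_of_le_of_card_ge (Subgroup.zpowers_le.mpr (hpow s))
      (by rw [hZk, Nat.card_zpowers, orderOf_pow, hso]; norm_num)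
    have htC : t ∉ C := fun htc => htZ (by
      obtain ⟨i, hi⟩ := htc
      have hi' : s ^ i = t := hi
      have h4 : (s ^ i) ^ 2 = 1 := by rw [hi', ht]
      rw [← zpow_natCast, ← zpow_mul, ← orderOf_dvd_iff_zpow_eq_one, hso] at h4
      obtain ⟨r, hr⟩ : (2 : ℤ) ∣ i := by omega
      rw [← hi', hr, ← hs2]
      exact ⟨r, by show (s ^ 2) ^ r = s ^ (2 * r); rw [← zpow_natCast, ← zpow_mul]; rfl⟩)
    have htt : t * t = 1 := by rw [← pow_two]; exact ht
    have hti : t⁻¹ = t := inv_eq_of_mul_eq_one_right htt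
    have hconj : t * s * t = s⁻¹ := by
      have hm : t * s * t⁻¹ ∈ C := Subgroup.Normal.conj_mem inferInstance _ (Subgroup.mem_zpowers s) t
      rw [hti] at hm
      have hcomm : ¬ Commute t s := fun hc => by
        have hcent : s ∈ Z := by
          rw [hZ, Subgroup.mem_center_iff]
          intro g
          by_cases hg : g ∈ C
          · obtain ⟨i, rfl⟩ := hg
            exact ((Commute.refl s).zpow_left i).eq
          · have : t * g ∈ C := (Subgroup.mul_mem_iff_of_index_two hCi).mpr (iff_of_false htC hg)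
            obtain ⟨i, hi⟩ := this
            have hg' : g = t * s ^ i := by
              have hi' : s ^ i = t * g := hi
              rw [hi', ← mul_assoc, htt, one_mul]
            rw [hg']
            exact (hc.mul_left ((Commute.refl s).zpow_left i)).eq
        exact hs (hZp s hcent)
      have hord : orderOf (t * s * t) = 4 := by
        conv_lhs => rw [show t * s * t = t * s * t⁻¹ by rw [hti]]
        rw [← MulAut.conj_apply, MulEquiv.orderOf_eq, hso]
        rfl
      obtain ⟨i, hi⟩ := hm
      have hi' : s ^ i = t * s * t := hi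
      have h4 : s ^ (i % 4) = t * s * t := by
        rw [← hi', ← zpow_mod_orderOf s i, hso]
        rfl
      rcases (show i % 4 = 0 ∨ i % 4 = 1 ∨ i % 4 = 2 ∨ i % 4 = 3 by omega) with e | e | e | e <;>
        rw [e] at h4
      · rw [← h4, zpow_zero, orderOf_one] at hord; omega
      · refine absurd ?_ hcomm
        show t * s = s * t
        rw [zpow_one] at h4
        nth_rewrite 2 [h4]
        rw [mul_assoc (t * s), htt, mul_one]
      · rw [← h4, show (2 : ℤ) = ((2 : ℕ) : ℤ) from rfl, zpow_natCast, orderOf_pow, hso] at hord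
        norm_num at hord
      · rw [← h4, ← mul_eq_one_iff_eq_inv, ← zpow_add_one, ← orderOf_dvd_iff_zpow_eq_one, hso]
        norm_num
    have hout : ∀ g, g ∉ C → g ^ 2 = 1 := fun g hg => by
      have : t * g ∈ C := (Subgroup.mul_mem_iff_of_index_two hCi).mpr (iff_of_false htC hg)
      obtain ⟨i, hi⟩ := this
      have hi' : s ^ i = t * g := hi
      have hg' : g = t * s ^ i := by rw [hi', ← mul_assoc, htt, one_mul]
      have e : t * s ^ i * t = (s ^ i)⁻¹ := by
        have := (map_zpow (MulAut.conj t) s i)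
        simp only [MulAut.conj_apply, hti, hconj] at this
        rw [this, inv_zpow]
      rw [hg', pow_two, ← mul_assoc, e, inv_mul_cancel]
    have hCeq : Subgroup.closure {g : H | g ^ 2 ≠ 1} = C :=
      le_antisymm ((Subgroup.closure_le _).mpr fun g hg => by_contra fun h => hg (hout g h))
        (Subgroup.zpowers_le.mpr (Subgroup.subset_closure hs))
    refine ⟨Z, C, hs2 ▸ Subgroup.zpowers_le.mpr (pow_mem (Subgroup.mem_zpowers s) 2), hZk, hCc, ?_, ?_⟩
    · intro α x hx
      rw [hZ, Subgroup.mem_center_iff] at hx ⊢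
      intro g
      obtain ⟨g', rfl⟩ := α.surjective g
      rw [← map_mul, ← map_mul, hx]
    · intro α x hx
      rw [← hCeq] at hx ⊢
      have h2 : α x ∈ (Subgroup.closure {g : H | g ^ 2 ≠ 1}).map α.toMonoidHom := ⟨x, hx, rfl⟩
      rw [MonoidHom.map_closure] at h2
      refine Subgroup.closure_mono ?_ h2
      rintro _ ⟨g, hg, rfl⟩
      show (α g) ^ 2 ≠ 1
      rw [← map_pow]
      exact fun h => hg (α.injective (h.trans (map_one α).symm))
  · refine Or.inr (Or.inr (Or.inr (chain_of_powHom hcard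
      { toFun := fun x => x ^ p, map_one' := one_pow p, map_mul' := fun x y => ?_ } (fun x => rfl) hexp)))
    rw [CfsgLib.PGroup.mul_pow_central (hcl y x)]
    have hd : p ∣ p.choose 2 := hp.out.dvd_choose_self two_ne_zero (by
      have h2 := hp.out.two_le
      rcases eq_or_lt_of_le h2 with h | h
      · exact absurd hodd (by rw [← h]; decide)
      · exact h)
    obtain ⟨r, hr⟩ := hd
    rw [hr, pow_mul, hZp _ (hcl y x), one_pow, mul_one]

end CfsgLib.H29.CubeEssential
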