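import Mathlib
import Cfsg.Agent.Fusion.ChainStab
import Cfsg.Agent.Fusion.EssentialPair
import Cfsg.Agent.H29.CubeEssential.Groups

set_option autoImplicit false

/-!
An essential subgroup of order `p³` has no invariant chain with factors of order `p`.
-/

namespace CfsgLib.H29.CubeEssential

open Cfsg Cfsg.FusionSystem CfsgLib.Fusion

variable {Ω : Type*} [Group Ω] {S : Subgroup Ω} [Finite S] {F : Cfsg.FusionSystem S}
variable {p : ℕ} [hp : Fact p.Prime]

/-- A `p`-group of permutations of `p` points with a fixed point is trivial. -/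
theorem perm_eq_one {α : Type*} [Finite α] (hα : Nat.card α = p) (σ : Equiv.Perm α) {k : ℕ}
    (hσ : σ ^ p ^ k = 1) {a : α} (ha : σ a = a) : σ = 1 := by
  classical
  have hP : IsPGroup p (Subgroup.zpowers σ) := IsPGroup.of_card_dvd_pow (n := k) (by
    rw [Nat.card_zpowers]; exact orderOf_dvd_of_pow_eq_one hσ)
  have hfix : a ∈ MulAction.fixedPoints (Subgroup.zpowers σ) α := by
    rintro ⟨_, i, rfl⟩
    exact Equiv.Perm.zpow_apply_eq_self_of_apply_eq_self ha i
  have h1 := hP.card_modEq_card_fixedPoints (α := α)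
  rw [hα] at h1
  have hdvd : p ∣ Nat.card (MulAction.fixedPoints (Subgroup.zpowers σ) α) :=
    Nat.modEq_zero_iff_dvd.mp (h1.symm.trans (Nat.modEq_zero_iff_dvd.mpr dvd_rfl))
  haveI : Nonempty (MulAction.fixedPoints (Subgroup.zpowers σ) α) := ⟨⟨a, hfix⟩⟩
  have hall : MulAction.fixedPoints (Subgroup.zpowers σ) α = Set.univ := by
    refine Set.eq_univ_of_forall fun x => ?_
    by_contra hx
    have hlt := Set.ncard_lt_ncard (s := MulAction.fixedPoints (Subgroup.zpowers σ) α) (t := (Set.univ : Set α))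
      (Set.ssubset_univ_iff.mpr fun h => hx (by rw [h]; trivial))
    rw [Set.ncard_univ, hα, ← Nat.card_coe_set_eq] at hlt
    exact absurd (Nat.le_of_dvd Nat.card_pos hdvd) (not_le.mpr hlt)
  ext x
  exact (hall.ge (Set.mem_univ x)) ⟨σ, Subgroup.mem_zpowers σ⟩

/-- A `p`-automorphism fixing `K ≤ L` of relative index `p` centralises `L/K`. -/
theorem stab_factor {H : Type*} [Group H] [Finite H] (K L : Subgroup H) (hKL : K ≤ L)
    (hc : Nat.card L = p * Nat.card K) (γ : MulAut H) {k : ℕ} (hγ : γ ^ p ^ k = 1)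
    (hK : ∀ (α : ℤ) x, x ∈ K → (γ ^ α) x ∈ K) (hL : ∀ (α : ℤ) x, x ∈ L → (γ ^ α) x ∈ L)
    {x : H} (hx : x ∈ L) : x⁻¹ * γ x ∈ K := by
  classical
  let f : ℤ → L ⧸ K.subgroupOf L → L ⧸ K.subgroupOf L := fun i =>
    Quotient.map' (fun y => ⟨(γ ^ i) y, hL i y y.2⟩) (fun a b hab => by
      rw [QuotientGroup.leftRel_apply, Subgroup.mem_subgroupOf] at hab ⊢
      simpa using hK i _ hab)
  have hf : ∀ i j z, f i (f j z) = f (i + j) z := by
    intro i j z
    induction z using Quotient.inductionOn' with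
    | h y => exact congrArg Quotient.mk'' (Subtype.ext (by show (γ ^ i) ((γ ^ j) y) = _; rw [← MulAut.mul_apply, ← zpow_add]))
  have hf0 : ∀ z, f 0 z = z := by
    intro z
    induction z using Quotient.inductionOn' with
    | h y => exact congrArg Quotient.mk'' (Subtype.ext (by show (γ ^ (0 : ℤ)) (y : H) = y; rw [zpow_zero]; rfl))
  let σ : Equiv.Perm (L ⧸ K.subgroupOf L) :=
    ⟨f 1, f (-1), fun z => by rw [hf]; exact hf0 z, fun z => by rw [hf]; exact hf0 z⟩
  have hσn : ∀ (n : ℕ) z, (σ ^ n) z = f n z := by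
    intro n
    induction n with
    | zero => intro z; rw [pow_zero]; exact (hf0 z).symm
    | succ n ih =>
      intro z
      rw [pow_succ', Equiv.Perm.mul_apply, ih]
      show f 1 (f n z) = _
      rw [hf, add_comm]
      rfl
  have hσ : σ ^ p ^ k = 1 := by
    ext z
    rw [hσn]
    induction z using Quotient.inductionOn' with
    | h y => exact congrArg Quotient.mk'' (Subtype.ext (by show (γ ^ ((p ^ k : ℕ) : ℤ)) (y : H) = y; rw [zpow_natCast, hγ]; rfl))
  have hcq : Nat.card (L ⧸ K.subgroupOf L) = p := by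
    have h := Subgroup.card_eq_card_quotient_mul_card_subgroup (K.subgroupOf L)
    rw [hc, Nat.card_congr (Subgroup.subgroupOfEquivOfLe hKL).toEquiv] at h
    exact (Nat.eq_of_mul_eq_mul_right Nat.card_pos h).symm
  have h1 := perm_eq_one hcq σ hσ (a := QuotientGroup.mk (1 : L))
    (congrArg Quotient.mk'' (Subtype.ext (map_one (γ ^ (1 : ℤ)))))
  have h2 : σ (QuotientGroup.mk (⟨x, hx⟩ : L)) = QuotientGroup.mk ⟨x, hx⟩ := by rw [h1]; rfl
  have h3 := QuotientGroup.eq.mp h2.symm
  rw [Subgroup.mem_subgroupOf] at h3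
  simpa using h3

theorem sylow_normal_false (H : Subgroup Ω) (hH : F.IsEssential p H) (T : Sylow p (F.autGroup H))
    (hT : (T : Subgroup (F.autGroup H)).Normal) : False := by
  have hpp : p.Prime := hp.out
  obtain ⟨hc, -, hIn, Y, hdvd, hYne, P, hPY⟩ := hH
  haveI := hIn
  haveI := finite_of_le hc.1
  haveI := finite_mulAut hc.1
  let A := F.autGroup H
  let X := A ⧸ (Cfsg.Inn H).subgroupOf A
  let π : A →* X := QuotientGroup.mk' _
  have hπ : Function.Surjective π := QuotientGroup.mk'_surjective _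
  haveI : Subsingleton (Sylow p A) := @Sylow.unique_of_normal _ _ _ _ _ T hT |>.instSubsingleton
  haveI : (P : Subgroup X).Normal := by
    obtain ⟨T', hT'⟩ := Sylow.mapSurjective_surjective hπ p P
    rw [← hT', Sylow.coe_mapSurjective, Subsingleton.elim T' T]
    exact hT.map π hπ
  refine hYne (top_le_iff.1 (le_trans ?_ hPY))
  have hrank : ¬ Cfsg.PRankLE p (1 - 1) (P : Subgroup X) := by
    intro hr
    have h2 : p ∣ Nat.card (P : Subgroup X) := P.dvd_card_of_dvd_card hdvd
    obtain ⟨z, hz⟩ := exists_prime_orderOf_dvd_card' p h2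
    have h3 := hr (Subgroup.zpowers z) inferInstance (by
      rintro _ ⟨i, rfl⟩
      show (z ^ i) ^ p = 1
      exact orderOf_dvd_iff_pow_eq_one.1 ((orderOf_dvd_of_mem_zpowers ⟨i, rfl⟩).trans hz.dvd))
    rw [Nat.card_zpowers, hz] at h3
    simp at h3
    exact absurd h3 (by have := hpp.two_le; omega)
  refine le_trans ?_ (le_iSup (fun Q : {Q : Subgroup X // Q ≤ (P : Subgroup X) ∧ ¬ Cfsg.PRankLE p (1 - 1) Q} =>
    Subgroup.normalizer ((Q : Subgroup X) : Set X)) ⟨(P : Subgroup X), le_rfl, hrank⟩)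
  rw [Subgroup.normalizer_eq_top_iff.2 inferInstance]

theorem no_chain (H : Subgroup Ω) (hH : F.IsEssential p H) (hcard : Nat.card H = p ^ 3) :
    ¬ HasChain p H := by
  rintro ⟨K, L, hKL, hKc, hLc, hK, hL⟩
  haveI := finite_of_le hH.1.1
  haveI := finite_mulAut hH.1.1
  let C : ℕ → Subgroup Ω := fun i => if i = 0 then ⊥ else if i = 1 then K.map H.subtype
    else if i = 2 then L.map H.subtype else H
  have hC : Monotone C := monotone_nat_of_le_succ fun i => by
    show (if _ then _ else _) ≤ (if _ then _ else _)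
    rcases i with _ | _ | _ | i <;> simp
    · exact hKL
    · exact Subgroup.map_subtype_le L
  set A := F.autGroup H
  have hpres : ∀ γ ∈ A, PreservesChain C γ := fun γ _ i x hx => by
    rcases i with _ | _ | _ | i
    · have hx1 : x = 1 := Subtype.ext (by simpa [C] using hx)
      rw [hx1, map_one]; exact one_mem _
    · simp only [C] at hx ⊢
      obtain ⟨y, hy, e⟩ := hx
      rw [← Subtype.ext e]
      exact ⟨γ y, hK γ y hy, rfl⟩
    · simp only [C] at hx ⊢
      obtain ⟨y, hy, e⟩ := hx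
      rw [← Subtype.ext e]
      exact ⟨γ y, hL γ y hy, rfl⟩
    · simp [C]
  have hHp : IsPGroup p H := IsPGroup.of_card hcard
  obtain ⟨T⟩ : Nonempty (Sylow p A) := inferInstance
  refine sylow_normal_false H hH T ?_
  set D := (chainStab C 3 hC).subgroupOf A
  have hDn : D.Normal := ⟨fun β hβ γ => by
    intro i hi x hx
    have hy := hpres _ (inv_mem γ.2) (i + 1) x hx
    have h1 := hpres _ γ.2 i _ ((mem_chainStab (hL := hC).1 hβ) i hi _ hy)
    simp only [map_mul, map_inv, MulAut.apply_inv_self] at h1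
    exact h1⟩
  have hDp : IsPGroup p D := (isPGroup_chainStab hHp hC rfl (by simp [C])).comap_of_injective
    A.subtype A.subtype_injective
  have hTD : (T : Subgroup A) ≤ D := by
    intro γ hγ
    obtain ⟨k, hk⟩ := T.2 ⟨γ, hγ⟩
    have hk' : (γ : MulAut H) ^ p ^ k = 1 := congrArg (fun z : (T : Subgroup A) => ((z : A) : MulAut H)) hk
    intro i hi x hx
    have hbot : ∀ (i : ℤ) (y : H), y ∈ (⊥ : Subgroup H) → ((γ : MulAut H) ^ i) y ∈ (⊥ : Subgroup H) :=
      fun i y hy => by rw [Subgroup.mem_bot] at hy ⊢; rw [hy, map_one]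
    rcases i with _ | _ | _ | i
    · simp only [C] at hx ⊢
      obtain ⟨y, hy, e⟩ := hx
      rw [← Subtype.ext e]
      have h := stab_factor (p := p) (⊥ : Subgroup H) K bot_le (by rw [hKc, Subgroup.card_bot, mul_one]) _ hk'
        hbot (fun i y hy => hK _ y hy) hy
      exact Subgroup.mem_bot.mpr (congrArg Subtype.val (Subgroup.mem_bot.mp h))
    · simp only [C] at hx ⊢
      obtain ⟨y, hy, e⟩ := hx
      rw [← Subtype.ext e]
      exact ⟨_, stab_factor (p := p) K L hKL (by rw [hKc, hLc, pow_two]) _ hk'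
        (fun i y hy => hK _ y hy) (fun i y hy => hL _ y hy) hy, rfl⟩
    · simp only [C]
      exact ⟨_, stab_factor (p := p) L ⊤ le_top (by rw [Subgroup.card_top, hcard, hLc]; ring) _ hk'
        (fun i y hy => hL _ y hy) (fun i y _ => Subgroup.mem_top _) (Subgroup.mem_top x), rfl⟩
    · omega
  rw [← T.is_maximal' hDp hTD]
  exact hDn

end CfsgLib.H29.CubeEssential
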